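import Groth.Agent.S10906

/-!
# Additivity of the coefficient in degree `D` of Hilbert functions
-/

set_option autoImplicit false
universe u

open Filter Topology MvPolynomial Groth.Agent.GrCI Groth.Agent.S10906

namespace Groth.Agent.ProjDeg48

/-- If every minimal prime `p i` of `I` has `HF (p i) m / m ^ D → c i`, then every homogeneous `J ⊇ I` has
`HF J m / m ^ D → ∑ i, len_{p i}(S/J) * c i`. -/
theorem tendsto_HF_of_minimalPrimes {k : Type u} [Field k] {n r : ℕ}
    (I : Ideal (MvPolynomial (Fin (n + 1)) k)) (D : ℕ)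
    (p : Fin r → Ideal (MvPolynomial (Fin (n + 1)) k)) [hp : ∀ i, (p i).IsPrime]
    (hpinj : Function.Injective p)
    (hpmin : ∀ q : Ideal (MvPolynomial (Fin (n + 1)) k), q ∈ I.minimalPrimes ↔ ∃ i, q = p i)
    (hHom : ∀ i, Hom (fun _ : Fin (n + 1) => 1) (p i)) (c : Fin r → ℚ)
    (hlim : ∀ i, Tendsto (fun m : ℕ => (HF (p i) m : ℚ) / (m : ℚ) ^ D) atTop (𝓝 (c i)))
    (J : Ideal (MvPolynomial (Fin (n + 1)) k)) (hJ : Hom (fun _ : Fin (n + 1) => 1) J) (hIJ : I ≤ J) :
    (∀ i, Module.length (Localization.AtPrime (p i))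
      (LocalizedModule (p i).primeCompl (MvPolynomial (Fin (n + 1)) k ⧸ J)) ≠ ⊤) ∧
    Tendsto (fun m : ℕ => (HF J m : ℚ) / (m : ℚ) ^ D) atTop
      (𝓝 (∑ i, ((Module.length (Localization.AtPrime (p i))
        (LocalizedModule (p i).primeCompl (MvPolynomial (Fin (n + 1)) k ⧸ J))).toNat : ℚ) * c i)) := by
  classical
  let len : Ideal (MvPolynomial (Fin (n + 1)) k) → Fin r → ℕ∞ := fun J i =>
    Module.length (Localization.AtPrime (p i))
      (LocalizedModule (p i).primeCompl (MvPolynomial (Fin (n + 1)) k ⧸ J))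
  let Φ : Ideal (MvPolynomial (Fin (n + 1)) k) → Prop := fun J =>
    (∀ i, len J i ≠ ⊤) ∧ Tendsto (fun m : ℕ => (HF J m : ℚ) / (m : ℚ) ^ D) atTop
      (𝓝 (∑ i, ((len J i).toNat : ℚ) * c i))
  have hprime : ∀ q : Ideal (MvPolynomial (Fin (n + 1)) k), q.IsPrime →
      Hom (fun _ : Fin (n + 1) => 1) q → I ≤ q → Φ q := by
    intro q hq hqh hIq
    have hne : ∀ i, q ≠ p i → len q i = 0 := fun i hi =>
      LenLib.length_localized_quotient_eq_zero (p i) q (LinearEquiv.refl _ _) fun hle =>
        hi (le_antisymm hle (((hpmin _).mpr ⟨i, rfl⟩).2 ⟨hq, hIq⟩ hle))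
    by_cases hex : ∃ i, q = p i
    · obtain ⟨i, rfl⟩ := hex
      have hone : len (p i) i = 1 :=
        LenLib.length_localized_quotient_eq_one (p i) (LinearEquiv.refl _ _)
      refine ⟨fun j => ?_, ?_⟩
      · by_cases hj : j = i
        · subst hj; rw [hone]; exact ENat.one_ne_top
        · rw [hne j fun h => hj (hpinj h).symm]; exact ENat.zero_ne_top
      · rw [Finset.sum_eq_single i (fun j _ hj => by
          rw [hne j fun h => hj (hpinj h).symm]; simp) (fun h => absurd (Finset.mem_univ i) h), hone]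
        simpa using hlim i
    · push Not at hex
      refine ⟨fun j => by rw [hne j (hex j)]; exact ENat.zero_ne_top, ?_⟩
      rw [Finset.sum_eq_zero fun j _ => by rw [hne j (hex j)]; simp]
      obtain ⟨p', hp', hp'q⟩ := Ideal.exists_minimalPrimes_le hIq
      obtain ⟨i, rfl⟩ := (hpmin p').mp hp'
      obtain ⟨x, hxq, hxp⟩ := SetLike.not_le_iff_exists.mp
        (fun h => hex i (le_antisymm h hp'q) : ¬ q ≤ p i)
      obtain ⟨u, hu⟩ : ∃ u, weightedHomogeneousComponent (fun _ : Fin (n + 1) => 1) u x ∉ p i := by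
        by_contra! hall
        refine hxp ?_
        rw [← MvPolynomial.sum_homogeneousComponent x]
        exact Ideal.sum_mem _ fun u _ => hall u
      set h := weightedHomogeneousComponent (fun _ : Fin (n + 1) => 1) u x with hhdef
      have hh : IsWeightedHomogeneous (fun _ : Fin (n + 1) => 1) h u :=
        weightedHomogeneousComponent_isWeightedHomogeneous u x
      have hcol : col (p i) h = p i := le_antisymm
        (fun z hz => ((hp i).mem_or_mem hz).resolve_left hu) (le_col _ _)
      have hle : p i ⊔ Ideal.span {h} ≤ q :=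
        sup_le hp'q ((Ideal.span_singleton_le_iff_mem _).mpr (hqh x hxq u))
      have h1 : Tendsto (fun m : ℕ => (HF (p i ⊔ Ideal.span {h}) (m + u) : ℚ) / ((m + u : ℕ) : ℚ) ^ D)
          atTop (𝓝 0) := by
        have ha := (tendsto_add_atTop_iff_nat u).mpr (hlim i)
        have hb := (hlim i).mul (tendsto_ratio D u)
        rw [mul_one] at hb
        have := ha.sub hb
        rw [sub_self] at this
        refine this.congr' ?_
        filter_upwards [eventually_gt_atTop 0] with m hm
        have hm' : (m : ℚ) ≠ 0 := Nat.cast_ne_zero.mpr hm.ne'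
        rw [div_pow, ← HF_colon (hHom i) hh m, hcol, div_mul_div_comm,
          mul_comm ((m : ℚ) ^ D) (((m + u : ℕ) : ℚ) ^ D), mul_div_mul_right _ _ (pow_ne_zero _ hm'),
          Nat.cast_add (HF (p i ⊔ Ideal.span {h}) (m + u)), add_div, add_sub_cancel_right]
      rw [tendsto_add_atTop_iff_nat (f := fun m : ℕ => (HF (p i ⊔ Ideal.span {h}) m : ℚ) / (m : ℚ) ^ D) u] at h1
      refine tendsto_of_tendsto_of_tendsto_of_le_of_le' tendsto_const_nhds h1
        (Eventually.of_forall fun m => by positivity) (Eventually.of_forall fun m => ?_)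
      exact div_le_div_of_nonneg_right (by exact_mod_cast HF_mono hle m) (by positivity)
  have main : ∀ J : Ideal (MvPolynomial (Fin (n + 1)) k),
      Hom (fun _ : Fin (n + 1) => 1) J → I ≤ J → Φ J := by
    intro J
    induction J using WellFoundedGT.induction with
    | _ J ih =>
      intro hJ hIJ
      by_cases htop : J = ⊤
      · subst htop
        have h0 : ∀ i, len ⊤ i = 0 := fun i =>
          LenLib.length_localized_quotient_eq_zero (p i) ⊤ (LinearEquiv.refl _ _) fun h =>
            (hp i).ne_top (top_le_iff.mp h)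
        refine ⟨fun i => by rw [h0]; exact ENat.zero_ne_top, ?_⟩
        have hH0 : ∀ m, HF (⊤ : Ideal (MvPolynomial (Fin (n + 1)) k)) m = 0 := fun m => by
          haveI : Subsingleton (MvPolynomial (Fin (n + 1)) k ⧸ (⊤ : Ideal (MvPolynomial (Fin (n + 1)) k))) :=
            Ideal.Quotient.subsingleton_iff.mpr rfl
          exact Module.finrank_zero_of_subsingleton
        simp [h0, hH0]
      obtain ⟨h, e, hh, hhJ, hq⟩ := exists_prime_col hJ htop
      have hJ' := ih (J ⊔ Ideal.span {h}) (lt_of_le_not_ge le_sup_left fun hle =>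
        hhJ (hle (Ideal.mem_sup_right (Ideal.mem_span_singleton_self h)))) (hom_sup hJ hh)
        (hIJ.trans le_sup_left)
      have hcq := hprime _ hq (hom_col hJ hh) (hIJ.trans (le_col J h))
      have hadd : ∀ i, len J i = len (col J h) i + len (J ⊔ Ideal.span {h}) i := fun i =>
        length_step J h (p i)
      refine ⟨fun i => by rw [hadd]; exact WithTop.add_ne_top.2 ⟨hcq.1 i, hJ'.1 i⟩, ?_⟩
      convert shift (HF_colon hJ hh) hJ'.2 hcq.2 using 2
      rw [← Finset.sum_add_distrib]
      refine Finset.sum_congr rfl fun i _ => ?_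
      rw [hadd, ENat.toNat_add (hcq.1 i) (hJ'.1 i), Nat.cast_add]
      ring
  exact main J hJ hIJ

end Groth.Agent.ProjDeg48
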