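import Groth.Agent.S10906
import Groth.Agent.S10907
import Groth.Agent.VarDim.Algebra
import Groth.Agent.GrSyz.Hilbert
import Groth.Agent.GrSyz.CohBound
import Groth.Agent.GrSyz.Std
import Groth.Agent.GrLC.Basic

/-!
# Hilbert polynomials of homogeneous ideals

Existence through a minimal free resolution, the link with `GrSyz.stdGr`, and the bound of the degree by
the height.
-/

set_option autoImplicit false
universe u

open Filter MvPolynomial Groth.Agent.GrCI Groth.Agent.S10906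

namespace Groth.Agent.ProjDeg48

variable {k : Type u} [Field k] {n : ℕ}

local notation "S" => MvPolynomial (Fin (n + 1)) k
local notation "δ₁" => (fun _ : Fin (n + 1) => (1 : ℕ))

theorem mem_stdGr_natCast {p : S} {m : ℕ} :
    p ∈ _root_.GrSyz.stdGr k (Fin (n + 1)) (m : ℤ) ↔ IsWeightedHomogeneous δ₁ p m := by
  have hw : ∀ d : Fin (n + 1) →₀ ℕ, Finsupp.weight (fun _ : Fin (n + 1) => (1 : ℤ)) d =
      ((Finsupp.weight δ₁ d : ℕ) : ℤ) := fun d => by
    simp [Finsupp.weight_apply, Finsupp.sum]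
  rw [_root_.GrSyz.stdGr, mem_weightedHomogeneousSubmodule]
  refine forall_congr' fun d => imp_congr_right fun _ => ?_
  rw [hw, Nat.cast_inj]

theorem map_stdGr (J : Ideal S) (m : ℕ) :
    Submodule.map (Ideal.Quotient.mkₐ k J).toLinearMap (_root_.GrSyz.stdGr k (Fin (n + 1)) (m : ℤ)) =
      V δ₁ J m := by
  ext z
  simp only [Submodule.mem_map, mem_V, mem_stdGr_natCast]
  rfl

theorem finrank_stdGr_eq_HF (J : Ideal S) (m : ℕ) :
    Module.finrank k ↥(Submodule.map (Ideal.Quotient.mkₐ k J).toLinearMap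
      (_root_.GrSyz.stdGr k (Fin (n + 1)) (m : ℤ))) = HF J m := by
  rw [map_stdGr]; rfl

theorem decompose_stdGr (z : S) (u : ℕ) :
    (DirectSum.decompose (_root_.GrSyz.stdGr k (Fin (n + 1))) z (u : ℤ) : S) =
      weightedHomogeneousComponent δ₁ u z := by
  induction z using MvPolynomial.induction_on' with
  | monomial d r =>
    have hd' := isWeightedHomogeneous_monomial δ₁ d r rfl
    rw [weightedHomogeneousComponent_of_mem hd']
    by_cases hd : Finsupp.weight δ₁ d = u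
    · subst hd
      rw [DirectSum.decompose_of_mem_same _ (mem_stdGr_natCast.mpr hd'), if_pos rfl]
    · rw [DirectSum.decompose_of_mem_ne _ (mem_stdGr_natCast.mpr hd') (by exact_mod_cast hd),
        if_neg (Ne.symm hd)]
  | add a b ha hb =>
    simp only [map_add, DirectSum.decompose_add, DirectSum.add_apply, Submodule.coe_add, ha, hb]

theorem hom_of_stdGr {J : Ideal S} (hJ : J.IsHomogeneous (_root_.GrSyz.stdGr k (Fin (n + 1)))) :
    Hom δ₁ J := by
  intro x hx u
  rw [← decompose_stdGr]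
  exact hJ (u : ℤ) hx

theorem stdGr_hom {J : Ideal S} (hJ : Hom δ₁ J) :
    J.IsHomogeneous (_root_.GrSyz.stdGr k (Fin (n + 1))) := by
  intro i x hx
  rcases lt_or_ge i 0 with hi | hi
  · rw [Groth.Agent.GrSyz.stdGr_eq_zero_of_neg i hi _ (DirectSum.decompose _ x i).2]
    exact J.zero_mem
  · obtain ⟨u, rfl⟩ := Int.eq_ofNat_of_zero_le hi
    rw [decompose_stdGr]
    exact hJ x hx u

/-- Every homogeneous ideal has a Hilbert polynomial. -/
theorem exists_hilbPoly {J : Ideal S} (hJ : Hom δ₁ J) :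
    ∃ P : Polynomial ℚ, ∀ᶠ m : ℕ in atTop, (HF J m : ℚ) = P.eval (m : ℚ) := by
  classical
  let 𝒜 := _root_.GrSyz.stdGr k (Fin (n + 1))
  let ℳ : ℤ → Submodule k (S ⧸ J) := fun j => (𝒜 j).map (Ideal.Quotient.mkₐ k J).toLinearMap
  have hint : DirectSum.IsInternal ℳ :=
    Groth.Agent.GrLC.isInternal_quoGr 𝒜 (P := J) (stdGr_hom hJ)
  letI := hint.chooseDecomposition
  haveI : SetLike.GradedSMul 𝒜 ℳ := ⟨fun {i j a m} ha hm => by
    obtain ⟨p, hp, rfl⟩ := hm
    exact ⟨a * p, SetLike.mul_mem_graded ha hp, map_mul (Ideal.Quotient.mk J) a p⟩⟩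
  obtain ⟨F, hF⟩ := Groth.Agent.GrSyz.exists_minimal (𝒜 := 𝒜) (ℳ := ℳ)
    Groth.Agent.GrSyz.stdGr_eq_zero_of_neg Groth.Agent.GrSyz.stdGr_isUnit
  have hL := Groth.Agent.GrSyz.hasLengthLE_of_minimal F hF
  refine ⟨∑ i ∈ Finset.range (n + 1 + 1), Polynomial.C ((-1 : ℚ) ^ i) *
    ∑ b, Groth.Agent.GrSyz.binomPoly n ((n : ℤ) - F.deg i b),
    eventually_atTop.mpr ⟨(∑ i ∈ Finset.range (n + 1 + 1), ∑ b, |F.deg i b|).toNat, fun m hm => ?_⟩⟩
  have h := Groth.Agent.GrSyz.finrank_piece_eq_sum F (n + 1) hL (m : ℤ)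
  rw [← finrank_stdGr_eq_HF, show (Module.finrank k ↥(ℳ m) : ℚ) = ((Module.finrank k ↥(ℳ m) : ℤ) : ℚ) by simp,
    h, Polynomial.eval_finset_sum, Int.cast_sum]
  refine Finset.sum_congr rfl fun i hi => ?_
  rw [Polynomial.eval_mul, Polynomial.eval_C, Polynomial.eval_finset_sum, Int.cast_mul,
    Int.cast_pow, Int.cast_neg, Int.cast_one, Int.cast_sum]
  refine congrArg _ (Finset.sum_congr rfl fun b _ => ?_)
  have h1 := Finset.single_le_sum (f := fun b => |F.deg i b|) (fun b _ => abs_nonneg _) (Finset.mem_univ b)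
  have h2 := Finset.single_le_sum (f := fun i => ∑ b, |F.deg i b|)
    (fun i _ => Finset.sum_nonneg fun b _ => abs_nonneg _) hi
  have h3 := le_abs_self (F.deg i b)
  rw [if_pos (by omega : F.deg i b ≤ (m : ℤ)),
    show (m : ℚ) = ((m : ℤ) : ℚ) by simp,
    Groth.Agent.GrSyz.eval_binomPoly n _ (m : ℤ) (n + ((m : ℤ) - F.deg i b).toNat)
      (by push_cast; omega)]
  simp

theorem ringKrullDim_quotient_add_height_le (J : Ideal S) {c : ℕ} (hc : (c : ℕ∞) ≤ J.height) :
    ringKrullDim (S ⧸ J) + (c : WithBot ℕ∞) ≤ ((n + 1 : ℕ) : WithBot ℕ∞) := by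
  by_cases hJ : J = ⊤
  · haveI : Subsingleton (S ⧸ J) := Ideal.Quotient.subsingleton_iff.mpr hJ
    rw [ringKrullDim_eq_bot_of_subsingleton, WithBot.bot_add]
    exact bot_le
  have hdim : ringKrullDim S = ((n + 1 : ℕ) : WithBot ℕ∞) := by
    rw [MvPolynomial.ringKrullDim_of_isNoetherianRing, ringKrullDim_eq_zero_of_field, zero_add,
      Nat.card_eq_fintype_card, Fintype.card_fin]
  haveI : Nonempty (PrimeSpectrum.zeroLocus (R := S) J) := by
    obtain ⟨M, hM, hJM⟩ := Ideal.exists_le_maximal J hJ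
    exact ⟨⟨⟨M, hM.isPrime⟩, hJM⟩⟩
  rw [ringKrullDim_quotient, Order.krullDim_eq_iSup_length, ← WithBot.coe_natCast, ← WithBot.coe_natCast,
    ← WithBot.coe_add, WithBot.coe_le_coe, ENat.iSup_add]
  refine iSup_le fun s => ?_
  let q : Ideal S := s.head.1.asIdeal
  have hlen : ((s.length : ℕ) : WithBot ℕ∞) ≤ ringKrullDim (S ⧸ q) := by
    rw [ringKrullDim_quotient]
    exact Order.LTSeries.length_le_krullDim
      (LTSeries.mk s.length (fun i => (⟨(s.toFun i).1,
        fun x hx => s.head_le _ hx⟩ : PrimeSpectrum.zeroLocus (R := S) q))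
        fun a b hab => s.strictMono hab)
  have h := Groth.Agent.VarDim.ringKrullDim_quotient_add_height k S q
  rw [hdim] at h
  have hq : (c : ℕ∞) ≤ q.height := hc.trans (Ideal.height_mono s.head.2)
  have := (add_le_add hlen (WithBot.coe_le_coe.mpr hq)).trans h.le
  rw [← WithBot.coe_natCast, ← WithBot.coe_natCast, ← WithBot.coe_add] at this
  exact WithBot.coe_le_coe.mp this

/-- The degree of a Hilbert polynomial is at most `n - height`. -/
theorem natDegree_le_of_height {J : Ideal S} (hJ : Hom δ₁ J) {c : ℕ} (hc : (c : ℕ∞) ≤ J.height)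
    {P : Polynomial ℚ} (hP : ∀ᶠ m : ℕ in atTop, (HF J m : ℚ) = P.eval (m : ℚ)) :
    P.natDegree ≤ n - c := by
  by_cases h0 : P = 0
  · simp [h0]
  obtain ⟨m₀, hm₀⟩ := eventually_atTop.mp hP
  have h := S10907.result k n J (isHomogeneous_of_hom hJ) P h0
    ⟨m₀, fun m hm => (hm₀ m hm).symm.trans (S10904.finrank_V J m)⟩
  have h2 := ringKrullDim_quotient_add_height_le J hc
  rw [h] at h2
  have h3 : P.natDegree + 1 + c ≤ n + 1 := by exact_mod_cast h2
  omega

end Groth.Agent.ProjDeg48
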