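import Groth.Agent.InjHull.Matlis
import Groth.Agent.Gor.Ring
import Mathlib

/-!
# Lengths of linked ideals at a minimal prime

In a self-injective Artinian local ring `len (A/L) + len (A/Ann L) = len A`; localised form for
`J = 𝔠 : I` at a minimal prime of `𝔠` with `R/𝔠` Gorenstein.
-/

set_option autoImplicit false
universe u

open IsLocalRing CategoryTheory

namespace Groth.Agent.ProjDeg48

theorem length_add_length_annihilator {A : Type u} [CommRing A] [IsLocalRing A] [IsArtinianRing A]
    (hA : Module.Injective A A) (L : Ideal A) :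
    Module.length A (A ⧸ L) + Module.length A (A ⧸ Submodule.annihilator L) = Module.length A A := by
  obtain ⟨φ, hφ⟩ := Gor.Basic.exists_socle_of_artinian (A := A)
  have hh := Gor.Basic.hull_of_injective hφ hA
  let r : A →ₗ[A] (L →ₗ[A] A) := LinearMap.toSpanSingleton A _ L.subtype
  have hr : Function.Surjective r := fun ψ => by
    obtain ⟨g, hg⟩ := hA.out L.subtype L.injective_subtype ψ
    refine ⟨g 1, LinearMap.ext fun i => ?_⟩
    show g 1 * (i : A) = ψ i
    rw [← hg i, mul_comm, ← smul_eq_mul, ← map_smul, smul_eq_mul, mul_one]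
    rfl
  have hk : LinearMap.ker r = Submodule.annihilator L := by
    ext a
    rw [LinearMap.mem_ker, Submodule.mem_annihilator, LinearMap.ext_iff]
    exact ⟨fun h i hi => h ⟨i, hi⟩, fun h i => h i i.2⟩
  have hfin : IsFiniteLength A L :=
    isFiniteLength_iff_isNoetherian_isArtinian.mpr ⟨inferInstance, inferInstance⟩
  rw [((Submodule.quotEquivOfEq _ _ hk.symm).trans (r.quotKerEquivOfSurjective hr)).length_eq,
    InjHull.Matlis.length_dual hh hfin, add_comm]
  exact (Module.length_eq_add_of_exact L.subtype L.mkQ L.injective_subtype L.mkQ_surjective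
    (LinearMap.exact_subtype_mkQ L)).symm

variable {R : Type u} [CommRing R]

theorem length_quotient_quotient {a b : Ideal R} (hab : a ≤ b) :
    Module.length R (R ⧸ b) = Module.length (R ⧸ a) ((R ⧸ a) ⧸ b.map (Ideal.Quotient.mk a)) := by
  let g : R →ₗ[R] (R ⧸ a) ⧸ b.map (Ideal.Quotient.mk a) :=
    ((b.map (Ideal.Quotient.mk a)).mkQ.restrictScalars R).comp a.mkQ
  have hk : LinearMap.ker g = b := by
    ext x
    show (Submodule.Quotient.mk (Ideal.Quotient.mk a x) : (R ⧸ a) ⧸ b.map (Ideal.Quotient.mk a)) = 0 ↔ _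
    rw [Submodule.Quotient.mk_eq_zero, ← Ideal.mem_comap,
      Ideal.comap_map_of_surjective _ Ideal.Quotient.mk_surjective, ← RingHom.ker_eq_comap_bot,
      Ideal.mk_ker, sup_eq_left.2 hab]
  have hg : Function.Surjective g := (Submodule.mkQ_surjective _).comp (Submodule.mkQ_surjective _)
  rw [((Submodule.quotEquivOfEq _ _ hk.symm).trans (g.quotKerEquivOfSurjective hg)).length_eq]
  exact Module.length_eq_of_surjective Ideal.Quotient.mk_surjective

theorem length_localized_quotient (𝔠 K : Ideal R) (h : 𝔠 ≤ K) (p : Ideal R) [p.IsPrime] :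
    Module.length (Localization.AtPrime p) (LocalizedModule p.primeCompl (R ⧸ K)) =
      Module.length (Localization.AtPrime p ⧸ 𝔠.map (algebraMap R (Localization.AtPrime p)))
        ((Localization.AtPrime p ⧸ 𝔠.map (algebraMap R (Localization.AtPrime p))) ⧸
          (K.map (algebraMap R (Localization.AtPrime p))).map (Ideal.Quotient.mk _)) := by
  let f := Submodule.toLocalizedQuotient' (Localization.AtPrime p) p.primeCompl (Algebra.linearMap R (Localization.AtPrime p)) K
  let e1 : LocalizedModule p.primeCompl (R ⧸ K) ≃ₗ[(Localization.AtPrime p)]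
      (Localization.AtPrime p) ⧸ Submodule.localized' (Localization.AtPrime p) p.primeCompl (Algebra.linearMap R (Localization.AtPrime p)) K :=
    (IsLocalizedModule.linearEquiv p.primeCompl
      (LocalizedModule.mkLinearMap p.primeCompl (R ⧸ K)) f).extendScalarsOfIsLocalization p.primeCompl (Localization.AtPrime p)
  rw [e1.length_eq, (Submodule.quotEquivOfEq _ _ (Ideal.localized'_eq_map (Localization.AtPrime p) p.primeCompl K)).length_eq]
  exact length_quotient_quotient (Ideal.map_mono h)

/-- `len_p (R/I) + len_p (R/(𝔠:I)) = len_p (R/𝔠)` at a minimal prime `p` of `𝔠`, `R/𝔠` Gorenstein. -/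
theorem length_link [IsNoetherianRing R] (𝔠 I : Ideal R) [hG : LocCoh.IsGorensteinRing (R ⧸ 𝔠)]
    (h : 𝔠 ≤ I) (p : Ideal R) [p.IsPrime] (hp : p ∈ 𝔠.minimalPrimes) :
    Module.length (Localization.AtPrime p) (LocalizedModule p.primeCompl (R ⧸ 𝔠)) =
      Module.length (Localization.AtPrime p) (LocalizedModule p.primeCompl (R ⧸ I)) +
        Module.length (Localization.AtPrime p) (LocalizedModule p.primeCompl (R ⧸ 𝔠.colon (I : Set R))) := by
  classical
  set Rp := Localization.AtPrime p
  set J := 𝔠.colon (I : Set R)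
  have hcJ : 𝔠 ≤ J := fun x hx => Submodule.mem_colon.2 fun y _ => 𝔠.mul_mem_right y hx
  have hcp : 𝔠 ≤ p := hp.1.2
  set 𝔠' := 𝔠.map (algebraMap R Rp)
  let P := p.map (Ideal.Quotient.mk 𝔠)
  have hker : RingHom.ker (Ideal.Quotient.mk 𝔠) ≤ p := by rw [Ideal.mk_ker]; exact hcp
  have hPp : P.IsPrime := Ideal.map_isPrime_of_surjective Ideal.Quotient.mk_surjective hker
  have hPc : P.comap (Ideal.Quotient.mk 𝔠) = p := by
    rw [Ideal.comap_map_of_surjective _ Ideal.Quotient.mk_surjective, ← RingHom.ker_eq_comap_bot,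
      sup_eq_left.2 hker]
  have hsub : Algebra.algebraMapSubmonoid (R ⧸ 𝔠) p.primeCompl = P.primeCompl := by
    ext x
    constructor
    · rintro ⟨t, ht, rfl⟩ hx
      exact ht (hPc ▸ hx)
    · intro hx
      obtain ⟨t, rfl⟩ := Ideal.Quotient.mk_surjective x
      exact ⟨t, fun ht => hx (Ideal.mem_map_of_mem _ ht), rfl⟩
  haveI hloc : IsLocalization.AtPrime (Rp ⧸ 𝔠') P := by
    have : IsLocalization (Algebra.algebraMapSubmonoid (R ⧸ 𝔠) p.primeCompl) (Rp ⧸ 𝔠') := inferInstance
    rwa [hsub] at this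
  haveI := Gor.Ring.gorenstein_of_isLocalization_atPrime hG P (Rp ⧸ 𝔠')
  have hmin : P ∈ minimalPrimes (R ⧸ 𝔠) := by
    rw [Ideal.minimalPrimes_eq_comap] at hp
    obtain ⟨q, hq, hqp⟩ := hp
    have : P = q := by
      show p.map _ = q
      rw [← hqp, Ideal.map_comap_of_surjective _ Ideal.Quotient.mk_surjective]
    exact this ▸ hq
  have hd : ringKrullDim (Rp ⧸ 𝔠') = ((0 : ℕ) : WithBot ℕ∞) := by
    rw [IsLocalization.AtPrime.ringKrullDim_eq_height P (Rp ⧸ 𝔠'), Ideal.height_eq_zero_iff.2 hmin]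
    rfl
  have : Ring.KrullDimLE 0 (Rp ⧸ 𝔠') := Ring.krullDimLE_iff.2 hd.le
  have : IsArtinianRing (Rp ⧸ 𝔠') :=
    (isArtinianRing_iff_isNoetherianRing_krullDimLE_zero (R := Rp ⧸ 𝔠')).2 ⟨inferInstance, this⟩
  have hA : Module.Injective (Rp ⧸ 𝔠') (Rp ⧸ 𝔠') := Module.injective_module_of_injective_object
    (inj := injective_iff_hasInjectiveDimensionLT_one.mpr
      (Gor.Basic.hasInjectiveDimensionLT_dim (A := Rp ⧸ 𝔠') hd)) _ _
  rw [length_localized_quotient 𝔠 𝔠 le_rfl p, length_localized_quotient 𝔠 I h p,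
    length_localized_quotient 𝔠 J hcJ p]
  set π := Ideal.Quotient.mk 𝔠'
  have hann : (J.map (algebraMap R Rp)).map π = Submodule.annihilator ((I.map (algebraMap R Rp)).map π) := by
    refine le_antisymm ?_ fun a ha => ?_
    · rw [Submodule.le_annihilator_iff, smul_eq_mul, ← Ideal.map_mul, ← Ideal.map_mul,
        Ideal.map_eq_bot_iff_le_ker, Ideal.mk_ker]
      exact Ideal.map_mono (Ideal.mul_le.2 fun x hx y hy => Submodule.mem_colon.1 hx y hy)
    · obtain ⟨a, rfl⟩ := Ideal.Quotient.mk_surjective a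
      obtain ⟨r, s, rfl⟩ := IsLocalization.exists_mk'_eq p.primeCompl a
      obtain ⟨G, hGI⟩ := IsNoetherian.noetherian I
      have hg : ∀ g : G, ∃ t, t ∉ p ∧ t * (r * g) ∈ 𝔠 := fun g => by
        have h1 := Submodule.mem_annihilator.1 ha _ (Ideal.mem_map_of_mem π
          (Ideal.mem_map_of_mem (algebraMap R Rp) (hGI ▸ Submodule.subset_span g.2 : (g : R) ∈ I)))
        rw [smul_eq_mul, ← map_mul, Ideal.Quotient.eq_zero_iff_mem, mul_comm (IsLocalization.mk' Rp r s),
          IsLocalization.mul_mk'_eq_mk'_of_mul, IsLocalization.mk'_mem_map_algebraMap_iff, mul_comm (g : R)] at h1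
        obtain ⟨t, ht, ht'⟩ := h1
        exact ⟨t, ht, ht'⟩
      choose t ht htg using hg
      let T := ∏ g, t g
      have hT : T ∉ p := fun h => by
        obtain ⟨g, -, hg⟩ := (Ideal.IsPrime.prod_mem_iff).1 h
        exact ht g hg
      refine Ideal.mem_map_of_mem π ((IsLocalization.mk'_mem_map_algebraMap_iff p.primeCompl Rp J r s).2
        ⟨T, hT, Submodule.mem_colon.2 fun y hy => ?_⟩)
      rw [SetLike.mem_coe, ← hGI] at hy
      induction hy using Submodule.span_induction with
      | mem y hy =>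
        obtain ⟨k, hk⟩ : t ⟨y, hy⟩ ∣ T := Finset.dvd_prod_of_mem t (Finset.mem_univ _)
        rw [hk, smul_eq_mul, mul_comm (t ⟨y, hy⟩), mul_assoc, mul_assoc]
        exact 𝔠.mul_mem_left k (htg ⟨y, hy⟩)
      | zero => simp
      | add a b _ _ ha hb => rw [smul_add]; exact 𝔠.add_mem ha hb
      | smul z a _ ha => rw [smul_comm]; exact 𝔠.mul_mem_left z ha
  rw [hann, length_add_length_annihilator hA,
    (Submodule.quotEquivOfEqBot ((𝔠.map (algebraMap R Rp)).map π) (Ideal.map_quotient_self _)).length_eq]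

end Groth.Agent.ProjDeg48
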